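import Cfsg.Agent.Chev.Data.B2

/-! Kernel checks of the certificate of `chevB2`: fundamental reflections. -/

set_option autoImplicit false

namespace Cfsg.Agent.Chev

open Cfsg.Lie

theorem b2_refl0 : chkReflAll chevB2 b2Cert 0 = true := by decide +kernel

theorem b2_shape0 : chkN chevB2 b2Cert 0 = true := by decide +kernel

theorem b2_conj0 : chkConj chevB2 b2Cert 0 = true := by decide +kernel

theorem b2_refl1 : chkReflAll chevB2 b2Cert 1 = true := by decide +kernel

theorem b2_shape1 : chkN chevB2 b2Cert 1 = true := by decide +kernel

theorem b2_conj1 : chkConj chevB2 b2Cert 1 = true := by decide +kernel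

end Cfsg.Agent.Chev
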