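import Cfsg.Agent.Chev.Data.B2

/-! Kernel checks of the certificate of `chevB2`: tables. -/

set_option autoImplicit false

namespace Cfsg.Agent.Chev

open Cfsg.Lie

theorem b2_tab : chkTab chevB2 b2Cert.T = true := by decide +kernel

theorem b2_base : chkBase chevB2 b2Cert = true := by decide +kernel

theorem b2_steps : chkSteps chevB2 b2Cert = true := by decide +kernel

theorem b2_add : chkAdd chevB2 b2Cert = true := by decide +kernel

theorem b2_entries : chkAllEntries chevB2 b2Cert = true := by decide +kernel

end Cfsg.Agent.Chev
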