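import Cfsg.Agent.Chev.Data.D4

/-! Kernel checks of the certificate of `chevD4`: fundamental reflections. -/

set_option autoImplicit false

namespace Cfsg.Agent.Chev

open Cfsg.Lie

theorem d4_refl0 : chkReflAll chevD4 d4Cert 0 = true := by decide +kernel

theorem d4_shape0 : chkN chevD4 d4Cert 0 = true := by decide +kernel

theorem d4_conj0 : chkConj chevD4 d4Cert 0 = true := by decide +kernel

theorem d4_refl1 : chkReflAll chevD4 d4Cert 1 = true := by decide +kernel

theorem d4_shape1 : chkN chevD4 d4Cert 1 = true := by decide +kernel

theorem d4_conj1 : chkConj chevD4 d4Cert 1 = true := by decide +kernel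

theorem d4_refl2 : chkReflAll chevD4 d4Cert 2 = true := by decide +kernel

theorem d4_shape2 : chkN chevD4 d4Cert 2 = true := by decide +kernel

theorem d4_conj2 : chkConj chevD4 d4Cert 2 = true := by decide +kernel

theorem d4_refl3 : chkReflAll chevD4 d4Cert 3 = true := by decide +kernel

theorem d4_shape3 : chkN chevD4 d4Cert 3 = true := by decide +kernel

theorem d4_conj3 : chkConj chevD4 d4Cert 3 = true := by decide +kernel

end Cfsg.Agent.Chev
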