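import Cfsg.Agent.Chev.Data.D4

/-! Kernel checks of the certificate of `chevD4`: tables. -/

set_option autoImplicit false

namespace Cfsg.Agent.Chev

open Cfsg.Lie

theorem d4_tab : chkTab chevD4 d4Cert.T = true := by decide +kernel

theorem d4_base : chkBase chevD4 d4Cert = true := by decide +kernel

theorem d4_steps : chkSteps chevD4 d4Cert = true := by decide +kernel

theorem d4_add : chkAdd chevD4 d4Cert = true := by decide +kernel

theorem d4_entries : chkAllEntries chevD4 d4Cert = true := by decide +kernel

end Cfsg.Agent.Chev
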