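import Cfsg.Agent.Chev.Sound
import Cfsg.Agent.Chev.Check.D4Table0
import Cfsg.Agent.Chev.Check.D4Simple0
import Cfsg.Agent.Chev.Check.D4Pairs0

/-! The certificate of `chevD4` is valid. -/

set_option autoImplicit false

namespace Cfsg.Agent.Chev

open Cfsg.Lie

theorem d4_checks : Checks chevD4 d4Cert where
  tab := d4_tab
  base := d4_base
  refl i hi := by
    change i < 4 at hi
    interval_cases i
    · exact d4_refl0
    · exact d4_refl1
    · exact d4_refl2
    · exact d4_refl3
  steps := d4_steps
  add := d4_add
  entries := d4_entries
  shape i hi := by
    change i < 4 at hi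
    interval_cases i
    · exact d4_shape0
    · exact d4_shape1
    · exact d4_shape2
    · exact d4_shape3
  conj i hi := by
    change i < 4 at hi
    interval_cases i
    · exact d4_conj0
    · exact d4_conj1
    · exact d4_conj2
    · exact d4_conj3
  pair r hr := by
    change r < 24 at hr
    exact pair_of_chkPairs d4_pairs0 r (by omega) hr

end Cfsg.Agent.Chev
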