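import Cfsg.Agent.Chev.Sound
import Cfsg.Agent.Chev.Check.E6Table0
import Cfsg.Agent.Chev.Check.E6Simple0
import Cfsg.Agent.Chev.Check.E6Pairs0

/-! The certificate of `chevE6` is valid. -/

set_option autoImplicit false

namespace Cfsg.Agent.Chev

open Cfsg.Lie

theorem e6_checks : Checks chevE6 e6Cert where
  tab := e6_tab
  base := e6_base
  refl i hi := by
    change i < 6 at hi
    interval_cases i
    · exact e6_refl0
    · exact e6_refl1
    · exact e6_refl2
    · exact e6_refl3
    · exact e6_refl4
    · exact e6_refl5
  steps := e6_steps
  add := e6_add
  entries := e6_entries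
  shape i hi := by
    change i < 6 at hi
    interval_cases i
    · exact e6_shape0
    · exact e6_shape1
    · exact e6_shape2
    · exact e6_shape3
    · exact e6_shape4
    · exact e6_shape5
  conj i hi := by
    change i < 6 at hi
    interval_cases i
    · exact e6_conj0
    · exact e6_conj1
    · exact e6_conj2
    · exact e6_conj3
    · exact e6_conj4
    · exact e6_conj5
  pair r hr := by
    change r < 72 at hr
    exact pair_of_chkPairs e6_pairs0 r (by omega) hr

end Cfsg.Agent.Chev
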