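import Cfsg.Agent.Chev.Data.E7

/-! Kernel checks of the certificate of `chevE7`: fundamental reflections. -/

set_option autoImplicit false

namespace Cfsg.Agent.Chev

open Cfsg.Lie

theorem e7_refl0 : chkReflAll chevE7 e7Cert 0 = true := by decide +kernel

theorem e7_shape0 : chkN chevE7 e7Cert 0 = true := by decide +kernel

theorem e7_conj0 : chkConj chevE7 e7Cert 0 = true := by decide +kernel

theorem e7_refl1 : chkReflAll chevE7 e7Cert 1 = true := by decide +kernel

theorem e7_shape1 : chkN chevE7 e7Cert 1 = true := by decide +kernel

theorem e7_conj1 : chkConj chevE7 e7Cert 1 = true := by decide +kernel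

theorem e7_refl2 : chkReflAll chevE7 e7Cert 2 = true := by decide +kernel

theorem e7_shape2 : chkN chevE7 e7Cert 2 = true := by decide +kernel

theorem e7_conj2 : chkConj chevE7 e7Cert 2 = true := by decide +kernel

theorem e7_refl3 : chkReflAll chevE7 e7Cert 3 = true := by decide +kernel

theorem e7_shape3 : chkN chevE7 e7Cert 3 = true := by decide +kernel

theorem e7_conj3 : chkConj chevE7 e7Cert 3 = true := by decide +kernel

theorem e7_refl4 : chkReflAll chevE7 e7Cert 4 = true := by decide +kernel

theorem e7_shape4 : chkN chevE7 e7Cert 4 = true := by decide +kernel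

theorem e7_conj4 : chkConj chevE7 e7Cert 4 = true := by decide +kernel

theorem e7_refl5 : chkReflAll chevE7 e7Cert 5 = true := by decide +kernel

theorem e7_shape5 : chkN chevE7 e7Cert 5 = true := by decide +kernel

theorem e7_conj5 : chkConj chevE7 e7Cert 5 = true := by decide +kernel

theorem e7_refl6 : chkReflAll chevE7 e7Cert 6 = true := by decide +kernel

theorem e7_shape6 : chkN chevE7 e7Cert 6 = true := by decide +kernel

theorem e7_conj6 : chkConj chevE7 e7Cert 6 = true := by decide +kernel

end Cfsg.Agent.Chev
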