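import Cfsg.Agent.Chev.Data.E7

/-! Kernel checks of the certificate of `chevE7`: tables. -/

set_option autoImplicit false

namespace Cfsg.Agent.Chev

open Cfsg.Lie

theorem e7_tab : chkTab chevE7 e7Cert.T = true := by decide +kernel

end Cfsg.Agent.Chev
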