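import Cfsg.Agent.Chev.Sound
import Cfsg.Agent.Chev.Check.E7Table0
import Cfsg.Agent.Chev.Check.E7Table1
import Cfsg.Agent.Chev.Check.E7Simple0
import Cfsg.Agent.Chev.Check.E7Pairs0
import Cfsg.Agent.Chev.Check.E7Pairs1

/-! The certificate of `chevE7` is valid. -/

set_option autoImplicit false

namespace Cfsg.Agent.Chev

open Cfsg.Lie

theorem e7_checks : Checks chevE7 e7Cert where
  tab := e7_tab
  base := e7_base
  refl i hi := by
    change i < 7 at hi
    interval_cases i
    · exact e7_refl0
    · exact e7_refl1
    · exact e7_refl2
    · exact e7_refl3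
    · exact e7_refl4
    · exact e7_refl5
    · exact e7_refl6
  steps := e7_steps
  add := e7_add
  entries := e7_entries
  shape i hi := by
    change i < 7 at hi
    interval_cases i
    · exact e7_shape0
    · exact e7_shape1
    · exact e7_shape2
    · exact e7_shape3
    · exact e7_shape4
    · exact e7_shape5
    · exact e7_shape6
  conj i hi := by
    change i < 7 at hi
    interval_cases i
    · exact e7_conj0
    · exact e7_conj1
    · exact e7_conj2
    · exact e7_conj3
    · exact e7_conj4
    · exact e7_conj5
    · exact e7_conj6
  pair r hr := by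
    change r < 126 at hr
    by_cases h0 : r < 63
    · exact pair_of_chkPairs e7_pairs0 r (by omega) h0
    exact pair_of_chkPairs e7_pairs1 r (by omega) hr

end Cfsg.Agent.Chev
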