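import Cfsg.Agent.Chev.Data.E8

/-! Kernel checks of the certificate of `chevE8`: fundamental reflections. -/

set_option autoImplicit false

namespace Cfsg.Agent.Chev

open Cfsg.Lie

theorem e8_refl0 : chkReflAll chevE8 e8Cert 0 = true := by decide +kernel

theorem e8_shape0 : chkN chevE8 e8Cert 0 = true := by decide +kernel

theorem e8_conj0 : chkConj chevE8 e8Cert 0 = true := by decide +kernel

theorem e8_refl1 : chkReflAll chevE8 e8Cert 1 = true := by decide +kernel

theorem e8_shape1 : chkN chevE8 e8Cert 1 = true := by decide +kernel

theorem e8_conj1 : chkConj chevE8 e8Cert 1 = true := by decide +kernel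

theorem e8_refl2 : chkReflAll chevE8 e8Cert 2 = true := by decide +kernel

theorem e8_shape2 : chkN chevE8 e8Cert 2 = true := by decide +kernel

theorem e8_conj2 : chkConj chevE8 e8Cert 2 = true := by decide +kernel

theorem e8_refl3 : chkReflAll chevE8 e8Cert 3 = true := by decide +kernel

theorem e8_shape3 : chkN chevE8 e8Cert 3 = true := by decide +kernel

theorem e8_conj3 : chkConj chevE8 e8Cert 3 = true := by decide +kernel

end Cfsg.Agent.Chev
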