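import Cfsg.Agent.Chev.Data.E8

/-! Kernel checks of the certificate of `chevE8`: fundamental reflections. -/

set_option autoImplicit false

namespace Cfsg.Agent.Chev

open Cfsg.Lie

theorem e8_refl4 : chkReflAll chevE8 e8Cert 4 = true := by decide +kernel

theorem e8_shape4 : chkN chevE8 e8Cert 4 = true := by decide +kernel

theorem e8_conj4 : chkConj chevE8 e8Cert 4 = true := by decide +kernel

theorem e8_refl5 : chkReflAll chevE8 e8Cert 5 = true := by decide +kernel

theorem e8_shape5 : chkN chevE8 e8Cert 5 = true := by decide +kernel

theorem e8_conj5 : chkConj chevE8 e8Cert 5 = true := by decide +kernel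

theorem e8_refl6 : chkReflAll chevE8 e8Cert 6 = true := by decide +kernel

theorem e8_shape6 : chkN chevE8 e8Cert 6 = true := by decide +kernel

theorem e8_conj6 : chkConj chevE8 e8Cert 6 = true := by decide +kernel

theorem e8_refl7 : chkReflAll chevE8 e8Cert 7 = true := by decide +kernel

theorem e8_shape7 : chkN chevE8 e8Cert 7 = true := by decide +kernel

theorem e8_conj7 : chkConj chevE8 e8Cert 7 = true := by decide +kernel

end Cfsg.Agent.Chev
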