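import Cfsg.Agent.Chev.Data.E8

/-! Kernel checks of the certificate of `chevE8`: tables. -/

set_option autoImplicit false

namespace Cfsg.Agent.Chev

open Cfsg.Lie

theorem e8_base : chkBase chevE8 e8Cert = true := by decide +kernel

theorem e8_steps : chkSteps chevE8 e8Cert = true := by decide +kernel

theorem e8_add : chkAdd chevE8 e8Cert = true := by decide +kernel

theorem e8_entries : chkAllEntries chevE8 e8Cert = true := by decide +kernel

end Cfsg.Agent.Chev
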