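import Cfsg.Agent.Chev.Sound
import Cfsg.Agent.Chev.Check.E8Table0
import Cfsg.Agent.Chev.Check.E8Table1
import Cfsg.Agent.Chev.Check.E8Simple0
import Cfsg.Agent.Chev.Check.E8Simple1
import Cfsg.Agent.Chev.Check.E8Pairs0
import Cfsg.Agent.Chev.Check.E8Pairs1
import Cfsg.Agent.Chev.Check.E8Pairs2
import Cfsg.Agent.Chev.Check.E8Pairs3

/-! The certificate of `chevE8` is valid. -/

set_option autoImplicit false

namespace Cfsg.Agent.Chev

open Cfsg.Lie

theorem e8_checks : Checks chevE8 e8Cert where
  tab := e8_tab
  base := e8_base
  refl i hi := by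
    change i < 8 at hi
    interval_cases i
    · exact e8_refl0
    · exact e8_refl1
    · exact e8_refl2
    · exact e8_refl3
    · exact e8_refl4
    · exact e8_refl5
    · exact e8_refl6
    · exact e8_refl7
  steps := e8_steps
  add := e8_add
  entries := e8_entries
  shape i hi := by
    change i < 8 at hi
    interval_cases i
    · exact e8_shape0
    · exact e8_shape1
    · exact e8_shape2
    · exact e8_shape3
    · exact e8_shape4
    · exact e8_shape5
    · exact e8_shape6
    · exact e8_shape7
  conj i hi := by
    change i < 8 at hi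
    interval_cases i
    · exact e8_conj0
    · exact e8_conj1
    · exact e8_conj2
    · exact e8_conj3
    · exact e8_conj4
    · exact e8_conj5
    · exact e8_conj6
    · exact e8_conj7
  pair r hr := by
    change r < 240 at hr
    by_cases h0 : r < 60
    · exact pair_of_chkPairs e8_pairs0 r (by omega) h0
    by_cases h1 : r < 120
    · exact pair_of_chkPairs e8_pairs1 r (by omega) h1
    by_cases h2 : r < 180
    · exact pair_of_chkPairs e8_pairs2 r (by omega) h2
    exact pair_of_chkPairs e8_pairs3 r (by omega) hr

end Cfsg.Agent.Chev
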