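import Cfsg.Agent.Chev.Data.F4

/-! Kernel checks of the certificate of `chevF4`: fundamental reflections. -/

set_option autoImplicit false

namespace Cfsg.Agent.Chev

open Cfsg.Lie

theorem f4_refl0 : chkReflAll chevF4 f4Cert 0 = true := by decide +kernel

theorem f4_shape0 : chkN chevF4 f4Cert 0 = true := by decide +kernel

theorem f4_conj0 : chkConj chevF4 f4Cert 0 = true := by decide +kernel

theorem f4_refl1 : chkReflAll chevF4 f4Cert 1 = true := by decide +kernel

theorem f4_shape1 : chkN chevF4 f4Cert 1 = true := by decide +kernel

theorem f4_conj1 : chkConj chevF4 f4Cert 1 = true := by decide +kernel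

theorem f4_refl2 : chkReflAll chevF4 f4Cert 2 = true := by decide +kernel

theorem f4_shape2 : chkN chevF4 f4Cert 2 = true := by decide +kernel

theorem f4_conj2 : chkConj chevF4 f4Cert 2 = true := by decide +kernel

theorem f4_refl3 : chkReflAll chevF4 f4Cert 3 = true := by decide +kernel

theorem f4_shape3 : chkN chevF4 f4Cert 3 = true := by decide +kernel

theorem f4_conj3 : chkConj chevF4 f4Cert 3 = true := by decide +kernel

end Cfsg.Agent.Chev
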