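import Cfsg.Agent.Chev.Data.F4

/-! Kernel checks of the certificate of `chevF4`: tables. -/

set_option autoImplicit false

namespace Cfsg.Agent.Chev

open Cfsg.Lie

theorem f4_tab : chkTab chevF4 f4Cert.T = true := by decide +kernel

theorem f4_base : chkBase chevF4 f4Cert = true := by decide +kernel

theorem f4_steps : chkSteps chevF4 f4Cert = true := by decide +kernel

theorem f4_add : chkAdd chevF4 f4Cert = true := by decide +kernel

theorem f4_entries : chkAllEntries chevF4 f4Cert = true := by decide +kernel

end Cfsg.Agent.Chev
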