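import Cfsg.Agent.Chev.Sound
import Cfsg.Agent.Chev.Check.F4Table0
import Cfsg.Agent.Chev.Check.F4Simple0
import Cfsg.Agent.Chev.Check.F4Pairs0

/-! The certificate of `chevF4` is valid. -/

set_option autoImplicit false

namespace Cfsg.Agent.Chev

open Cfsg.Lie

theorem f4_checks : Checks chevF4 f4Cert where
  tab := f4_tab
  base := f4_base
  refl i hi := by
    change i < 4 at hi
    interval_cases i
    · exact f4_refl0
    · exact f4_refl1
    · exact f4_refl2
    · exact f4_refl3
  steps := f4_steps
  add := f4_add
  entries := f4_entries
  shape i hi := by
    change i < 4 at hi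
    interval_cases i
    · exact f4_shape0
    · exact f4_shape1
    · exact f4_shape2
    · exact f4_shape3
  conj i hi := by
    change i < 4 at hi
    interval_cases i
    · exact f4_conj0
    · exact f4_conj1
    · exact f4_conj2
    · exact f4_conj3
  pair r hr := by
    change r < 48 at hr
    exact pair_of_chkPairs f4_pairs0 r (by omega) hr

end Cfsg.Agent.Chev
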