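import Cfsg.Agent.Chev.Data.G2

/-! Kernel checks of the certificate of `chevG2`: commutator terms. -/

set_option autoImplicit false

namespace Cfsg.Agent.Chev

open Cfsg.Lie

theorem g2_pairs0 : chkPairs chevG2 g2Cert 0 12 = true := by decide +kernel

end Cfsg.Agent.Chev
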