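import Cfsg.Agent.Chev.Data.G2

/-! Kernel checks of the certificate of `chevG2`: fundamental reflections. -/

set_option autoImplicit false

namespace Cfsg.Agent.Chev

open Cfsg.Lie

theorem g2_refl0 : chkReflAll chevG2 g2Cert 0 = true := by decide +kernel

theorem g2_shape0 : chkN chevG2 g2Cert 0 = true := by decide +kernel

theorem g2_conj0 : chkConj chevG2 g2Cert 0 = true := by decide +kernel

theorem g2_refl1 : chkReflAll chevG2 g2Cert 1 = true := by decide +kernel

theorem g2_shape1 : chkN chevG2 g2Cert 1 = true := by decide +kernel

theorem g2_conj1 : chkConj chevG2 g2Cert 1 = true := by decide +kernel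

end Cfsg.Agent.Chev
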