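import Cfsg.Agent.Chev.Data.G2

/-! Kernel checks of the certificate of `chevG2`: tables. -/

set_option autoImplicit false

namespace Cfsg.Agent.Chev

open Cfsg.Lie

theorem g2_tab : chkTab chevG2 g2Cert.T = true := by decide +kernel

theorem g2_base : chkBase chevG2 g2Cert = true := by decide +kernel

theorem g2_steps : chkSteps chevG2 g2Cert = true := by decide +kernel

theorem g2_add : chkAdd chevG2 g2Cert = true := by decide +kernel

theorem g2_entries : chkAllEntries chevG2 g2Cert = true := by decide +kernel

end Cfsg.Agent.Chev
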