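import Cfsg.Agent.Chev.Sound
import Cfsg.Agent.Chev.Check.G2Table0
import Cfsg.Agent.Chev.Check.G2Simple0
import Cfsg.Agent.Chev.Check.G2Pairs0

/-! The certificate of `chevG2` is valid. -/

set_option autoImplicit false

namespace Cfsg.Agent.Chev

open Cfsg.Lie

theorem g2_checks : Checks chevG2 g2Cert where
  tab := g2_tab
  base := g2_base
  refl i hi := by
    change i < 2 at hi
    interval_cases i
    · exact g2_refl0
    · exact g2_refl1
  steps := g2_steps
  add := g2_add
  entries := g2_entries
  shape i hi := by
    change i < 2 at hi
    interval_cases i
    · exact g2_shape0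
    · exact g2_shape1
  conj i hi := by
    change i < 2 at hi
    interval_cases i
    · exact g2_conj0
    · exact g2_conj1
  pair r hr := by
    change r < 12 at hr
    exact pair_of_chkPairs g2_pairs0 r (by omega) hr

end Cfsg.Agent.Chev
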